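import Cfsg.Prelude.Def_Quasithin
import Cfsg.Prelude.Def_QuasithinSetup
import Cfsg.Agent.S1854
import Cfsg.Agent.S0205
import Cfsg.Agent.Bridge.Bender
import Cfsg.Agent.H70.Balanced.Criterion
import Cfsg.Agent.H82.OneTwoLocal.Main
import Cfsg.Agent.H36.TwoIrrational.Basic

/-!
If the normalizers of the Alperin-Goldschmidt family lie in the only maximal 2-local above `T`, the normal
2-subgroups of `M` are strongly closed, and the abelian theorem gives a Bender group.
-/

set_option autoImplicit false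

namespace Cfsg.Agent.H82.WACons

open Subgroup

universe u

variable {G : Type u} [Group G] [Finite G]

theorem le_sylow_of_normalized {M U : Subgroup G} (T : Sylow 2 G) (hTM : (T : Subgroup G) ≤ M)
    (hUM : M ≤ normalizer (U : Set G)) (hU : IsPGroup 2 U) : U ≤ (T : Subgroup G) := by
  haveI : Fact (Nat.Prime 2) := ⟨Nat.prime_two⟩
  have h : IsPGroup 2 ↥(U ⊔ (T : Subgroup G)) :=
    hU.to_sup_of_normal_left' T.isPGroup' (hTM.trans hUM)
  exact le_sup_left.trans (T.is_maximal' h le_sup_right).le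

theorem stronglyClosed_of_family [IsSimpleGroup G] (hna : ¬ IsMulCommutative G)
    (hK : Cfsg.IsKProper G) (T : Sylow 2 G) {M : Subgroup G} (hTM : (T : Subgroup G) ≤ M)
    (h : ∀ D ∈ Cfsg.agConjFamily (T : Subgroup G), normalizer (D : Set G) ≤ M)
    {U : Subgroup G} (hUM : M ≤ normalizer (U : Set G)) (hU : IsPGroup 2 U) :
    Cfsg.IsStronglyClosed U (T : Subgroup G) := by
  haveI : Fact (Nat.Prime 2) := ⟨Nat.prime_two⟩
  have hUT := le_sylow_of_normalized T hTM hUM hU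
  refine ⟨hUT, fun x hx g hg => ?_⟩
  by_cases hx1 : x = 1
  · subst hx1; simp
  obtain ⟨n, D, w, c, hn, hDT, hw, hcent, hdir, hidx, h0, hstep, hc, hgprod⟩ :=
    S1854.result hna hK T {x} (Set.singleton_subset_iff.2 (hUT hx)) g⁻¹ (by
      rintro _ ⟨a, ha, rfl⟩
      rw [Set.mem_singleton_iff] at ha
      subst ha
      show g⁻¹⁻¹ * a * g⁻¹ ∈ (T : Subgroup G)
      rw [inv_inv]
      exact hg)
  have hDne : ∀ i : Fin n, D i ≠ ⊥ := by
    rintro ⟨i, hi⟩ e
    rcases i with _ | j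
    · exact hx1 (by simpa [e] using h0 hn (Set.mem_singleton x))
    · have := hstep ⟨j, by omega⟩ hi ⟨x, rfl, rfl⟩
      rw [e] at this
      set Q := ((List.ofFn w).take (j + 1)).prod
      have h1 : Q⁻¹ * x * Q = 1 := mem_bot.1 this
      exact hx1 (by rw [show x = Q * (Q⁻¹ * x * Q) * Q⁻¹ by group, h1]; group)
  have hwM : ∀ i, w i ∈ M := by
    intro i
    refine h (D i) ⟨hDne i, hDT i, ?_, hcent i, ?_, (hdir i).2.2.2.2⟩ (hw i)
    · have hp : IsPGroup 2 ↥((((T : Subgroup G) ⊓ normalizer ((D i : Subgroup G) : Set G)).subgroupOf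
          (normalizer ((D i : Subgroup G) : Set G)))) :=
        (T.isPGroup'.to_le inf_le_left).of_equiv (subgroupOfEquivOfLe inf_le_right).symm
      exact ⟨hp.toSylow (hidx i), rfl⟩
    · exact (commutator_eq_bot_iff_le_centralizer).2 fun a ha =>
        mem_centralizer_iff.2 fun d hd => ((hdir i).2.2.1 a ha d hd).symm
  have hP : (List.ofFn w).prod ∈ M :=
    list_prod_mem fun a ha => by
      obtain ⟨i, rfl⟩ := List.mem_ofFn.1 ha
      exact hwM i
  have hcx : x * c = c * x := mem_centralizer_iff.1 hc x rfl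
  set P := (List.ofFn w).prod
  have : g = P⁻¹ * c⁻¹ := by rw [← mul_inv_rev, ← hgprod, inv_inv]
  have he : g * x * g⁻¹ = P⁻¹ * x * P⁻¹⁻¹ := by
    subst this
    calc P⁻¹ * c⁻¹ * x * (P⁻¹ * c⁻¹)⁻¹ = P⁻¹ * (c⁻¹ * (x * c)) * P := by group
      _ = _ := by rw [hcx]; group
  rw [he]
  exact (mem_normalizer_iff.1 (hUM (inv_mem hP)) x).1 hx

theorem not_isSolvable [IsSimpleGroup G] (hna : ¬ IsMulCommutative G) : ¬ Group.IsSolvable G :=
  fun hs => hna ⟨⟨IsSimpleGroup.comm_iff_isSolvable.2 hs⟩⟩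

theorem ne_top_of_twoLocal [IsSimpleGroup G] (hna : ¬ IsMulCommutative G) {M : Subgroup G}
    (hM : Cfsg.IsTwoLocal M) : M ≠ ⊤ := fun e => by
  haveI : Fact (Nat.Prime 2) := ⟨Nat.prime_two⟩
  obtain ⟨T, hT, hT1, hMT⟩ := hM
  haveI : T.Normal := normalizer_eq_top_iff.1 (hMT.symm.trans e)
  rcases (show T.Normal from inferInstance).eq_bot_or_eq_top with h | h
  · exact hT1 h
  · haveI := hT.isNilpotent
    haveI : Group.IsNilpotent (⊤ : Subgroup G) := h ▸ this
    haveI : Group.IsSolvable (⊤ : Subgroup G) := inferInstance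
    exact not_isSolvable hna (Group.isSolvable_of_surjective
      (f := (Subgroup.topEquiv : (⊤ : Subgroup G) ≃* G).toMonoidHom)
      (Subgroup.topEquiv : (⊤ : Subgroup G) ≃* G).surjective)

theorem exists_stronglyEmbedded [IsSimpleGroup G] (hWA : H36.TwoIrrational.StronglyClosedAbelianHyp.{u})
    (hna : ¬ IsMulCommutative G) (hK : Cfsg.IsKProper G) (T : Sylow 2 G) (M : Subgroup G)
    (hM : Cfsg.maxTwoLocalsContaining (T : Subgroup G) = {M})
    (h : ∀ D ∈ Cfsg.agConjFamily (T : Subgroup G), normalizer (D : Set G) ≤ M) :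
    ∃ H : Subgroup G, Cfsg.IsStronglyEmbedded H := by
  haveI : Fact (Nat.Prime 2) := ⟨Nat.prime_two⟩
  obtain ⟨hMmax, hTM⟩ : Cfsg.IsMaximalTwoLocal M ∧ (T : Subgroup G) ≤ M :=
    show M ∈ Cfsg.maxTwoLocalsContaining (T : Subgroup G) by rw [hM]; rfl
  have uniq : ∀ N : Subgroup G, Cfsg.IsTwoLocal N → (T : Subgroup G) ≤ N → N ≤ M := by
    intro N hN hTN
    obtain ⟨M', hM', hle⟩ := OneTwoLocal.exists_maximal_ge hN
    have : M' ∈ Cfsg.maxTwoLocalsContaining (T : Subgroup G) := ⟨hM', hTN.trans hle⟩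
    rw [hM, Set.mem_singleton_iff] at this
    exact this ▸ hle
  obtain ⟨R, hR, hR1, hMR⟩ := hMmax.1
  haveI : Nontrivial R := (Subgroup.nontrivial_iff_ne_bot R).2 hR1
  haveI : Group.IsNilpotent R := hR.isNilpotent
  haveI : Nontrivial (center R) := hR.center_nontrivial
  set A := (center R).map R.subtype with hA
  have hA1 : A ≠ ⊥ := by
    rw [hA, Ne, map_eq_bot_iff_of_injective _ R.subtype_injective, ← Ne,
      ← Subgroup.nontrivial_iff_ne_bot]
    infer_instance
  have hAc : IsMulCommutative A := ⟨⟨by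
    rintro ⟨a, a', ha', rfl⟩ ⟨b, b', hb', rfl⟩
    exact Subtype.ext (congrArg (R.subtype) (mem_center_iff.1 ha' b').symm)⟩⟩
  have hMA : M ≤ normalizer (A : Set G) := by
    intro m hm
    refine H39.mem_normalizer_of_conj_mem ?_
    rintro _ ⟨a, ha, rfl⟩
    rw [hMR] at hm
    refine ⟨⟨m * a * m⁻¹, (mem_normalizer_iff.1 hm a).1 a.2⟩, mem_center_iff.2 fun r => ?_, rfl⟩
    have hr : m⁻¹ * r * m ∈ R := by simpa using (mem_normalizer_iff.1 (inv_mem hm) r).1 r.2
    have := congrArg Subtype.val (mem_center_iff.1 ha ⟨_, hr⟩)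
    apply Subtype.ext
    simp only [coe_mul] at this ⊢
    calc (r : G) * (m * a * m⁻¹) = m * (m⁻¹ * r * m * a) * m⁻¹ := by group
      _ = m * (a * (m⁻¹ * r * m)) * m⁻¹ := by rw [this]
      _ = _ := by group
  have hAsc := stronglyClosed_of_family hna hK T hTM h hMA (hR.to_le (by
    rintro _ ⟨a, -, rfl⟩; exact a.2))
  rcases hWA G T A hA1 hAc hAsc with hab | hse
  · have hT1 : (T : Subgroup G) ≠ ⊥ := fun e => hA1 (le_bot_iff.1 (e ▸ hAsc.1))
    refine ⟨M, H70.Balanced.isStronglyEmbedded_of_centralizer_le (ne_top_of_twoLocal hna hMmax.1)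
      T hT1 (uniq _ ⟨T, T.isPGroup', hT1, rfl⟩ le_normalizer) fun x hx hx2 => ?_⟩
    have hxT : (T : Subgroup G) ≤ centralizer ({x} : Set G) := fun t ht =>
      mem_centralizer_singleton_iff.2 (congrArg Subtype.val
        (hab.is_comm.comm (⟨t, ht⟩ : (T : Subgroup G)) ⟨x, hx⟩))
    have hle : centralizer ({x} : Set G) ≤ normalizer (zpowers x : Set G) := by
      intro c hc
      refine H39.mem_normalizer_of_conj_mem ?_
      rintro _ ⟨k, rfl⟩
      have hcomm : Commute c x := mem_centralizer_singleton_iff.1 hc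
      exact ⟨k, by rw [(hcomm.zpow_right k).eq, mul_inv_cancel_right]⟩
    exact hle.trans (uniq _ ⟨zpowers x,
      IsPGroup.of_card (n := 1) (by rw [Nat.card_zpowers, hx2, pow_one]),
      by rw [Ne, zpowers_eq_bot]; rintro rfl; simp at hx2, rfl⟩ (hxT.trans hle))
  · exact hse

/-- The statement of row 1847, from the strongly closed abelian theorem. -/
theorem row1847 [IsSimpleGroup G] (hWA : H36.TwoIrrational.StronglyClosedAbelianHyp.{u})
    (hna : ¬ IsMulCommutative G) (hQ : Cfsg.IsQTKE G) (T : Sylow 2 G) (M : Subgroup G)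
    (hM : Cfsg.maxTwoLocalsContaining (T : Subgroup G) = {M})
    (h : ∀ D ∈ Cfsg.agConjFamily (T : Subgroup G), normalizer (D : Set G) ≤ M) :
    (∀ U : Subgroup G, U ≤ M → M ≤ normalizer (U : Set G) → IsPGroup 2 ↥U →
        Cfsg.IsStronglyClosed U (T : Subgroup G)) ∧
      Cfsg.IsBenderGroup G := by
  obtain ⟨-, hTM⟩ : Cfsg.IsMaximalTwoLocal M ∧ (T : Subgroup G) ≤ M :=
    show M ∈ Cfsg.maxTwoLocalsContaining (T : Subgroup G) by rw [hM]; rfl
  refine ⟨fun U _ hUM hU => stronglyClosed_of_family hna hQ.2.1 T hTM h hUM hU, ?_⟩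
  obtain ⟨H, hH⟩ := exists_stronglyEmbedded hWA hna hQ.2.1 T M hM h
  have hab : ∃ a b : G, a * b ≠ b * a := by
    by_contra hc
    push Not at hc
    exact hna ⟨⟨hc⟩⟩
  rcases Bridge.bender G hab H hH with hl | hs | ⟨F, iF, iT, q, hF, hq, h4, he⟩
  · exact Or.inl hl
  · exact Or.inr (Or.inr hs)
  · haveI := H76.PostBender.charP_two_of_card hF hq
    obtain ⟨k, -, hk⟩ := FiniteField.card F 2
    obtain ⟨n, -, rfl⟩ := (Nat.dvd_prime_pow Nat.prime_two).1
      (show q ∣ 2 ^ (k : ℕ) from hk ▸ hF ▸ dvd_pow_self q two_ne_zero)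
    refine Or.inr (Or.inl ⟨F, iF, iT, n, ?_, hF, he⟩)
    by_contra hlt
    have := Nat.pow_le_pow_right (show 1 ≤ 2 by norm_num) (Nat.lt_succ_iff.1 (not_le.1 hlt))
    omega

end Cfsg.Agent.H82.WACons
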